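import Cfsg.Agent.H440.Bs.Iso

/-!
# S5733, BS03: the (TI) property of the large block (helper440)

* `hh_of_small'`, `hh_of_small`;
* `ti_minus`, `ti_plus` : an element which conjugates `glue x y` to `glue x' y'` stabilises `D`.
-/

set_option autoImplicit false

namespace Cfsg.Agent.H440.Bs

open Cfsg.Agent.H847.Bs Module

variable {F V : Type*} [Field F] [AddCommGroup V] [Module F V] {Φ : Frm F V} {D U : Submodule F V}

/-- the irreducible submodules have dimension at most `d`, those of dimension more than `d / 2` are nondegenerate -/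
def HH (Φ : Frm F V) (d : ℕ) (y : V ≃ₗ[F] V) : Prop :=
  ∀ X : Submodule F V, Irr y X → finrank F X ≤ d ∧ (d < 2 * finrank F X → Φ.NdOn X)

theorem hh_of_SS {K d : ℕ} {y : V ≃ₗ[F] V} (h : y ∈ Φ.SS K d) : HH Φ d y := h.2.2

theorem HH.mono {d d' : ℕ} (hd : d ≤ d') {y : V ≃ₗ[F] V} (h : HH Φ d y) : HH Φ d' y := by
  intro X hX
  obtain ⟨h1, h2⟩ := h X hX
  exact ⟨h1.trans hd, fun h3 => h2 (by omega)⟩

theorem SS_mono {K d d' : ℕ} (hd : d ≤ d') : Φ.SS K d ⊆ Φ.SS K d' := by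
  rintro x ⟨h1, h2, h3⟩
  exact ⟨h1, h2, HH.mono hd h3⟩

theorem SS_anti {K K' d : ℕ} (hK : K' ≤ K) : Φ.SS K d ⊆ Φ.SS K' d := by
  rintro x ⟨h1, h2, h3⟩
  exact ⟨h1, fun Y hY hY0 => lt_of_le_of_lt hK (h2 Y hY hY0), h3⟩

/-- an irreducible submodule is nondegenerate or totally isotropic -/
theorem Irr.nd_or [FiniteDimensional F V] {y : V ≃ₗ[F] V} (hy : y ∈ Φ.Iso) {X : Submodule F V} (hX : Irr y X) :
    Φ.NdOn X ∨ ∀ v ∈ X, ∀ w ∈ X, Φ.B v w = 0 := by
  have h1 : Inv y (X ⊓ perp Φ X) := fun v hv => ⟨hX.inv v hv.1, inv_perp hy hX.inv v hv.2⟩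
  rcases hX.min _ inf_le_left h1 with h2 | h2
  · left
    intro v hv hv'
    have h3 : v ∈ X ⊓ perp Φ X := ⟨hv, hv'⟩
    rwa [h2, Submodule.mem_bot] at h3
  · right
    intro v hv w hw
    rw [← h2] at hv
    exact hv.2 w hw

theorem hh_of_small' [FiniteDimensional F V] (hN : Φ.Nd) {y : V ≃ₗ[F] V} (hy : y ∈ Φ.Iso) {d : ℕ}
    (hd : finrank F V ≤ d) : HH Φ d y := by
  intro X hX
  refine ⟨(Submodule.finrank_le X).trans hd, fun h1 => ?_⟩
  rcases Irr.nd_or hy hX with h2 | h2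
  · exact h2
  · exfalso
    have := two_mul_finrank_le Φ hN h2
    omega

theorem hh_of_small [FiniteDimensional F V] (h : Φ.Dec D U) (hN : Φ.Nd) {y : U ≃ₗ[F] U} (hy : y ∈ (Φ.on U).Iso)
    {d : ℕ} (hd : finrank F U < d) : HH (Φ.on U) (d - 1) y :=
  hh_of_small' (Dec.nd' h hN) hy (by omega)

/-- A nondegenerate equivariant form on `A` gives an isomorphism of `A` with `A'`. -/
theorem iso_of_forms [FiniteDimensional F V] (hN : Φ.Nd) {A A' : Submodule F V} (hc : IsCompl A A')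
    (hA' : ∀ v ∈ A', ∀ w ∈ A', Φ.B v w = 0) (hdim : finrank F A = finrank F A') {x : V ≃ₗ[F] V} (hx : x ∈ Φ.Iso)
    (hxA : Inv x A) (hxA' : Inv x A') {W : Type*} [AddCommGroup W] [Module F W] {Ψ : Frm F W} (hs : Ψ.s = Φ.s)
    {y : W ≃ₗ[F] W} (hy : y ∈ Ψ.Iso) (f : A →ₗ[F] W) (hf : ∀ a b : A, (b : V) = x a → f b = y (f a))
    (hnd : ∀ a : A, (∀ b : A, Ψ.B (f a) (f b) = 0) → a = 0) :
    ∃ φ : A ≃ₗ[F] A', ∀ a : A, ∀ ha : x a ∈ A, ((φ ⟨x a, ha⟩ : A') : V) = x (φ a) := by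
  set b := Module.finBasis F A
  have hspan : ∀ P : A → Prop, (∀ i, P (b i)) → P 0 → (∀ v w, P v → P w → P (v + w)) → (∀ (c : F) v, P v → P (c • v)) →
      ∀ v, P v := by
    intro P h1 h2 h3 h4 v
    have h5 : v ∈ Submodule.span F (Set.range b) := by rw [b.span_eq]; trivial
    induction h5 using Submodule.span_induction with
    | mem v hv => obtain ⟨i, rfl⟩ := hv; exact h1 i
    | zero => exact h2
    | add v w _ _ hv hw => exact h3 v w hv hw
    | smul c v _ hv => exact h4 c v hv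
  let T' : A' →ₗ[F] (Fin (finrank F A) → F) := LinearMap.pi fun i => lin Φ (b i : V) ∘ₗ A'.subtype
  let T : A →ₗ[F] (Fin (finrank F A) → F) := LinearMap.pi fun i => lin Ψ (f (b i)) ∘ₗ f
  have hT' : Function.Injective T' := by
    rw [← LinearMap.ker_eq_bot, LinearMap.ker_eq_bot']
    rintro ⟨a', ha'⟩ h1
    have h2 : ∀ a : A, Φ.B a' a = 0 := hspan _ (fun i => congrFun h1 i) (B_zero_right Φ _)
      (fun v w hv hw => by rw [Submodule.coe_add, Φ.add_right, hv, hw, add_zero])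
      (fun c v hv => by rw [Submodule.coe_smul, Φ.smul_right, hv, mul_zero])
    refine Subtype.ext (hN a' fun v => ?_)
    obtain ⟨a, c, rfl⟩ := exists_add' hc v
    rw [Φ.add_right, h2, hA' a' ha' _ c.2, add_zero]
  have hT : Function.Injective T := by
    rw [← LinearMap.ker_eq_bot, LinearMap.ker_eq_bot']
    intro a h1
    refine hnd a (hspan _ (fun i => congrFun h1 i) ?_ ?_ ?_)
    · rw [map_zero]; exact B_zero_right Ψ _
    · intro v w hv hw
      rw [map_add, Ψ.add_right, hv, hw, add_zero]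
    · intro c v hv
      rw [map_smul, Ψ.smul_right, hv, mul_zero]
  have hcard : finrank F (Fin (finrank F A) → F) = finrank F A := by
    rw [finrank_fintype_fun_eq_card, Fintype.card_fin]
  let e' : A' ≃ₗ[F] (Fin (finrank F A) → F) := LinearEquiv.ofBijective T'
    ⟨hT', (LinearMap.injective_iff_surjective_of_finrank_eq_finrank (by rw [hcard, hdim])).1 hT'⟩
  let e : A ≃ₗ[F] (Fin (finrank F A) → F) := LinearEquiv.ofBijective T
    ⟨hT, (LinearMap.injective_iff_surjective_of_finrank_eq_finrank (by rw [hcard])).1 hT⟩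
  let φ : A ≃ₗ[F] A' := e.trans e'.symm
  have hφ' : ∀ a, T' (φ a) = T a := fun a => e'.apply_symm_apply (e a)
  have hφ : ∀ a c : A, Φ.B (φ a) c = Ψ.B (f a) (f c) := by
    intro a
    refine hspan _ (fun i => congrFun (hφ' a) i) ?_ ?_ ?_
    · rw [map_zero]
      exact (B_zero_right Φ _).trans (B_zero_right Ψ _).symm
    · intro v w hv hw
      rw [Submodule.coe_add, Φ.add_right, map_add, Ψ.add_right, hv, hw]
    · intro c v hv
      rw [Submodule.coe_smul, Φ.smul_right, map_smul, Ψ.smul_right, hv, hs]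
  refine ⟨φ, fun a ha => ?_⟩
  have h1 : φ ⟨x a, ha⟩ = ⟨x (φ a), hxA' _ (φ a).2⟩ := by
    apply hT'
    funext i
    show Φ.B (φ ⟨x a, ha⟩) (b i) = Φ.B (x (φ a)) (b i)
    obtain ⟨w, hw, hwi⟩ := Inv.surj hxA (b i).2
    rw [hφ, hf a ⟨x a, ha⟩ rfl, hf ⟨w, hw⟩ (b i) hwi.symm, hy.1, ← hφ, ← hwi, hx.1]
  rw [h1]

theorem map_top_subtype (D : Submodule F V) : (⊤ : Submodule F D).map D.subtype = D := by
  rw [Submodule.map_top, Submodule.range_subtype]

/-- `D` is irreducible for `glue x y` if `x` is irreducible on `D` -/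
theorem irr_glue_left (h : IsCompl D U) {x : D ≃ₗ[F] D} {y : U ≃ₗ[F] U} (hx : Irr x ⊤) : Irr (glue h x y) D := by
  have := Irr.map_left h (y := y) hx
  rwa [map_top_subtype] at this

/-- **(TI), blocks of type minus** (no form needed). -/
theorem ti_minus' [FiniteDimensional F V] (h : IsCompl D U) {g : V ≃ₗ[F] V} {x x' : D ≃ₗ[F] D} {y y' : U ≃ₗ[F] U}
    (hx : Irr x ⊤) (hy' : ∀ X : Submodule F U, Irr y' X → finrank F X < finrank F D)
    (hg : g * glue h x y * g⁻¹ = glue h x' y') : Inv g D := by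
  have h1 := Irr.conj (g := g) (irr_glue_left h (y := y) hx)
  rw [hg] at h1
  rcases Irr.le_or_pU h h1 with h2 | ⟨-, h2, h3⟩
  · exact fun v hv => h2 (Submodule.mem_map_of_mem (f := (g : V →ₗ[F] V)) hv)
  · exfalso
    have h4 := hy' _ h2
    rw [h3, LinearEquiv.finrank_map_eq g D] at h4
    exact lt_irrefl _ h4

theorem ti_minus [FiniteDimensional F V] (h : IsCompl D U) {g : V ≃ₗ[F] V} {x x' : D ≃ₗ[F] D} {y y' : U ≃ₗ[F] U}
    (hx : x ∈ (Φ.on D).Bm) (hy' : HH (Φ.on U) (finrank F D - 1) y')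
    (hg : g * glue h x y * g⁻¹ = glue h x' y') : Inv g D := by
  refine ti_minus' h hx.2 (fun X hX => ?_) hg
  have h1 := (hy' X hX).1
  have h2 := Irr.pos (irr_glue_left h (y := y) hx.2)
  omega

/-- one half of a block of type plus is mapped into `D` -/
theorem ti_plus_aux [FiniteDimensional F V] (h : Φ.Dec D U) (hN : Φ.Nd) {g : V ≃ₗ[F] V} {x x' : D ≃ₗ[F] D}
    {y y' : U ≃ₗ[F] U} (hx : x ∈ (Φ.on D).Iso) {A A' : Submodule F D} (hc : IsCompl A A') (hA' : (Φ.on D).TI A')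
    (hxA : Irr x A) (hxA' : Irr x A') (hdim : finrank F A = finrank F A')
    (hno : ¬ ∃ φ : A ≃ₗ[F] A', ∀ a : A, ∀ ha : x a ∈ A, ((φ ⟨x a, ha⟩ : A') : D) = x (φ a))
    (hy' : y' ∈ (Φ.on U).Iso) (hH : HH (Φ.on U) (finrank F D - 1) y')
    (hg : g * glue h.compl x y * g⁻¹ = glue h.compl x' y') : ∀ a ∈ A, g a ∈ D := by
  have h1 := Irr.conj (g := g) (Irr.map_left h.compl (y := y) hxA)
  rw [hg] at h1
  rcases Irr.le_or_pU h.compl h1 with h2 | ⟨h0, h2, h3⟩
  · exact fun v hv => h2 (Submodule.mem_map_of_mem (f := (g : V →ₗ[F] V)) (Submodule.mem_map_of_mem (f := D.subtype) hv))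
  · exfalso
    apply hno
    have h4 := (hH _ h2).2
    have h5 : finrank F ((A.map D.subtype).map (g : V →ₗ[F] V)) = finrank F A := by
      rw [LinearEquiv.finrank_map_eq g, finrank_map_subtype]
    have h6 : finrank F A + finrank F A' = finrank F D := Submodule.finrank_add_eq_of_isCompl hc
    have h7 := Irr.pos hxA
    rw [h3, h5] at h4
    have h8 := h4 (by omega)
    refine iso_of_forms (Dec.nd h hN) hc hA'.1 hdim hx hxA.inv hxA'.inv (Ψ := Φ.on U) rfl hy'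
      (pU h.compl ∘ₗ (g : V →ₗ[F] V) ∘ₗ D.subtype ∘ₗ A.subtype) ?_ ?_
    · intro a b hab
      show pU h.compl (g ((b : D) : V)) = y' (pU h.compl (g ((a : D) : V)))
      rw [← pU_glue h.compl x' y', ← hg, hab]
      have h9 : g⁻¹ (g ((a : D) : V)) = ((a : D) : V) := g.symm_apply_apply _
      rw [LinearEquiv.mul_apply, LinearEquiv.mul_apply, h9, glue_left]
    · intro a ha
      have hga : g ((a : D) : V) ∈ (A.map D.subtype).map (g : V →ₗ[F] V) :=
        Submodule.mem_map_of_mem (f := (g : V →ₗ[F] V)) (Submodule.mem_map_of_mem (f := D.subtype) a.2)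
      have h9 : pU h.compl (g ((a : D) : V)) = 0 := by
        refine h8 _ (Submodule.mem_map_of_mem hga) ?_
        rintro _ ⟨_, ⟨_, ⟨c, hc, rfl⟩, rfl⟩, rfl⟩
        exact ha ⟨c, hc⟩
      rw [pU_eq_zero] at h9
      have h10 := (Submodule.disjoint_def.1 h0) _ hga h9
      have h11 : ((a : D) : V) = 0 := (LinearEquiv.map_eq_zero_iff g).1 h10
      exact Subtype.ext (Subtype.ext h11)

theorem Bp_symm {x : V ≃ₗ[F] V} {A A' : Submodule F V} (hA' : Inv x A')
    (hno : ¬ ∃ φ : A ≃ₗ[F] A', ∀ a : A, ∀ ha : x a ∈ A, ((φ ⟨x a, ha⟩ : A') : V) = x (φ a)) :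
    ¬ ∃ φ : A' ≃ₗ[F] A, ∀ a : A', ∀ ha : x a ∈ A', ((φ ⟨x a, ha⟩ : A) : V) = x (φ a) := by
  rintro ⟨φ, hφ⟩
  apply hno
  refine ⟨φ.symm, fun a ha => ?_⟩
  have h1 := hφ (φ.symm a) (hA' _ (φ.symm a).2)
  rw [LinearEquiv.apply_symm_apply] at h1
  have h2 : φ.symm ⟨x a, ha⟩ = ⟨x (φ.symm a), hA' _ (φ.symm a).2⟩ := by
    rw [LinearEquiv.symm_apply_eq]
    exact Subtype.ext h1.symm
  rw [h2]

/-- **(TI), blocks of type plus.** -/
theorem ti_plus [FiniteDimensional F V] (h : Φ.Dec D U) (hN : Φ.Nd) {g : V ≃ₗ[F] V} {x x' : D ≃ₗ[F] D}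
    {y y' : U ≃ₗ[F] U} (hx : x ∈ (Φ.on D).Bp) (hy' : y' ∈ (Φ.on U).Iso)
    (hH : HH (Φ.on U) (finrank F D - 1) y') (hg : g * glue h.compl x y * g⁻¹ = glue h.compl x' y') : Inv g D := by
  obtain ⟨hx, A, A', hc, hA, hA', hxA, hxA', hdim, hno⟩ := hx
  have h1 := ti_plus_aux h hN hx hc hA' hxA hxA' hdim hno hy' hH hg
  have h2 := ti_plus_aux h hN hx hc.symm hA hxA' hxA hdim.symm (Bp_symm hxA'.inv hno) hy' hH hg
  intro v hv
  obtain ⟨a, c, hac⟩ := exists_add' hc (⟨v, hv⟩ : D)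
  have h3 : v = ((a : D) : V) + ((c : D) : V) := congrArg Subtype.val hac
  rw [h3, map_add]
  exact D.add_mem (h1 _ a.2) (h2 _ c.2)

end Cfsg.Agent.H440.Bs
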