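import Cfsg.Agent.H440.Bs.Rec

/-!
# S5733, BS03: transport along isometries of spaces, trivial cases (helper440)

* `IsoTo Φ Φ' e` : `e : V ≃ V'` is an isometry; `tr e` the isomorphism of the linear groups;
* `tr_mem_iso`, `tr_mem_SS`, `tr_mem_Bm`, `tr_mem_Bp`; `card_iso`, `card_SS`, `card_Bm`, `card_Bp`;
* `card_SS_zero` : spaces of dimension zero.
-/

set_option autoImplicit false

namespace Cfsg.Agent.H440.Bs

open Cfsg.Agent.H847.Bs Module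

variable {F V V' : Type*} [Field F] [AddCommGroup V] [Module F V] [AddCommGroup V'] [Module F V']
  {Φ : Frm F V} {Φ' : Frm F V'}

/-- `e` is an isometry -/
structure IsoTo (Φ : Frm F V) (Φ' : Frm F V') (e : V ≃ₗ[F] V') : Prop where
  B : ∀ x y, Φ'.B (e x) (e y) = Φ.B x y
  q : ∀ x, Φ'.q (e x) = Φ.q x

/-- the isomorphism of the linear groups -/
def tr (e : V ≃ₗ[F] V') : (V ≃ₗ[F] V) ≃* (V' ≃ₗ[F] V') where
  toFun g := e.symm ≪≫ₗ g ≪≫ₗ e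
  invFun g := e ≪≫ₗ g ≪≫ₗ e.symm
  left_inv g := by ext v; simp
  right_inv g := by ext v; simp
  map_mul' g k := by
    ext v
    show e (g (k (e.symm v))) = e (g (e.symm (e (k (e.symm v)))))
    rw [e.symm_apply_apply]

theorem tr_apply (e : V ≃ₗ[F] V') (g : V ≃ₗ[F] V) (v : V') : tr e g v = e (g (e.symm v)) := rfl

theorem tr_apply' (e : V ≃ₗ[F] V') (g : V ≃ₗ[F] V) (v : V) : tr e g (e v) = e (g v) := by
  rw [tr_apply, e.symm_apply_apply]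

theorem tr_symm_tr (e : V ≃ₗ[F] V') (g : V ≃ₗ[F] V) : tr e.symm (tr e g) = g := by
  ext v
  rw [tr_apply, tr_apply]
  simp

theorem tr_tr_symm (e : V ≃ₗ[F] V') (g : V' ≃ₗ[F] V') : tr e (tr e.symm g) = g := by
  ext v
  rw [tr_apply, tr_apply]
  simp

theorem IsoTo.symm {e : V ≃ₗ[F] V'} (h : IsoTo Φ Φ' e) : IsoTo Φ' Φ e.symm := by
  refine ⟨fun x y => ?_, fun x => ?_⟩
  · rw [← h.B, e.apply_symm_apply, e.apply_symm_apply]
  · rw [← h.q, e.apply_symm_apply]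

theorem IsoTo.refl : IsoTo Φ Φ (LinearEquiv.refl F V) := ⟨fun _ _ => rfl, fun _ => rfl⟩

theorem IsoTo.trans {V'' : Type*} [AddCommGroup V''] [Module F V''] {Φ'' : Frm F V''} {e : V ≃ₗ[F] V'}
    {e' : V' ≃ₗ[F] V''} (h : IsoTo Φ Φ' e) (h' : IsoTo Φ' Φ'' e') : IsoTo Φ Φ'' (e.trans e') :=
  ⟨fun x y => by rw [LinearEquiv.trans_apply, LinearEquiv.trans_apply, h'.B, h.B],
    fun x => by rw [LinearEquiv.trans_apply, h'.q, h.q]⟩

theorem tr_mem_iso {e : V ≃ₗ[F] V'} (h : IsoTo Φ Φ' e) {g : V ≃ₗ[F] V} (hg : g ∈ Φ.Iso) : tr e g ∈ Φ'.Iso := by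
  refine ⟨fun x y => ?_, fun x => ?_⟩
  · rw [tr_apply, tr_apply, h.B, hg.1, ← h.B, e.apply_symm_apply, e.apply_symm_apply]
  · rw [tr_apply, h.q, hg.2, ← h.q, e.apply_symm_apply]

theorem tr_mem_iso_iff {e : V ≃ₗ[F] V'} (h : IsoTo Φ Φ' e) {g : V ≃ₗ[F] V} : tr e g ∈ Φ'.Iso ↔ g ∈ Φ.Iso := by
  refine ⟨fun h1 => ?_, tr_mem_iso h⟩
  have := tr_mem_iso h.symm h1
  rwa [tr_symm_tr] at this

theorem Inv.tr {e : V ≃ₗ[F] V'} {g : V ≃ₗ[F] V} {Y : Submodule F V} (h : Inv g Y) :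
    Inv (tr e g) (Y.map (e : V →ₗ[F] V')) := by
  rintro _ ⟨v, hv, rfl⟩
  exact ⟨g v, h v hv, (tr_apply' e g v).symm⟩

theorem map_map_symm (e : V ≃ₗ[F] V') (Y : Submodule F V) :
    (Y.map (e : V →ₗ[F] V')).map (e.symm : V' →ₗ[F] V) = Y := by
  rw [← Submodule.map_comp]
  have : (e.symm : V' →ₗ[F] V) ∘ₗ (e : V →ₗ[F] V') = LinearMap.id := by
    ext v
    exact e.symm_apply_apply v
  rw [this, Submodule.map_id]

theorem map_symm_map (e : V ≃ₗ[F] V') (Y : Submodule F V') :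
    (Y.map (e.symm : V' →ₗ[F] V)).map (e : V →ₗ[F] V') = Y := map_map_symm e.symm Y

theorem Inv.tr' {e : V ≃ₗ[F] V'} {g : V ≃ₗ[F] V} {Y : Submodule F V'} (h : Inv (Cfsg.Agent.H440.Bs.tr e g) Y) :
    Inv g (Y.map (e.symm : V' →ₗ[F] V)) := by
  have := Inv.tr (e := e.symm) h
  rwa [tr_symm_tr] at this

theorem map_ne_bot {e : V ≃ₗ[F] V'} {Y : Submodule F V} (h : Y ≠ ⊥) : Y.map (e : V →ₗ[F] V') ≠ ⊥ := by
  intro h1
  apply h
  rw [← map_map_symm e Y, h1, Submodule.map_bot]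

theorem Irr.tr {e : V ≃ₗ[F] V'} {g : V ≃ₗ[F] V} {X : Submodule F V} (h : Irr g X) :
    Irr (Cfsg.Agent.H440.Bs.tr e g) (X.map (e : V →ₗ[F] V')) := by
  refine ⟨Inv.tr h.inv, map_ne_bot h.ne_bot, fun Y hY hYi => ?_⟩
  have h1 : Y.map (e.symm : V' →ₗ[F] V) ≤ X := by
    rw [← map_map_symm e X]
    exact Submodule.map_mono hY
  rcases h.min _ h1 (Inv.tr' hYi) with h2 | h2
  · left; rw [← map_symm_map e Y, h2, Submodule.map_bot]
  · right; rw [← map_symm_map e Y, h2]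

theorem Irr.tr' {e : V ≃ₗ[F] V'} {g : V ≃ₗ[F] V} {X : Submodule F V'} (h : Irr (Cfsg.Agent.H440.Bs.tr e g) X) :
    Irr g (X.map (e.symm : V' →ₗ[F] V)) := by
  have := Irr.tr (e := e.symm) h
  rwa [tr_symm_tr] at this

theorem NdOn.tr {e : V ≃ₗ[F] V'} (h : IsoTo Φ Φ' e) {X : Submodule F V} (hX : Φ.NdOn X) :
    Φ'.NdOn (X.map (e : V →ₗ[F] V')) := by
  rintro _ ⟨v, hv, rfl⟩ h1
  have : v = 0 := hX v hv fun w hw => by
    rw [← h.B]
    exact h1 _ (Submodule.mem_map_of_mem (f := (e : V →ₗ[F] V')) hw)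
  rw [this, map_zero]

theorem TI.tr {e : V ≃ₗ[F] V'} (h : IsoTo Φ Φ' e) {X : Submodule F V} (hX : Φ.TI X) :
    Φ'.TI (X.map (e : V →ₗ[F] V')) := by
  constructor
  · rintro _ ⟨v, hv, rfl⟩ _ ⟨w, hw, rfl⟩
    exact (h.B v w).trans (hX.1 v hv w hw)
  · rintro _ ⟨v, hv, rfl⟩
    exact (h.q v).trans (hX.2 v hv)

theorem Nd.tr {e : V ≃ₗ[F] V'} (h : IsoTo Φ Φ' e) (hN : Φ.Nd) : Φ'.Nd := by
  intro x hx
  have : e.symm x = 0 := hN _ fun y => by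
    rw [← h.B, e.apply_symm_apply]
    exact hx _
  rwa [LinearEquiv.map_eq_zero_iff] at this

theorem tr_mem_SS {e : V ≃ₗ[F] V'} (h : IsoTo Φ Φ' e) {K d : ℕ} {g : V ≃ₗ[F] V} (hg : g ∈ Φ.SS K d) :
    tr e g ∈ Φ'.SS K d := by
  obtain ⟨h1, h2, h3⟩ := hg
  have h4 : ∀ Y : Submodule F V', finrank F (Y.map (e.symm : V' →ₗ[F] V)) = finrank F Y :=
    fun Y => LinearEquiv.finrank_map_eq e.symm Y
  refine ⟨tr_mem_iso h h1, fun Y hY hY0 => ?_, fun X hX => ?_⟩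
  · rw [← h4]
    exact h2 _ (Inv.tr' hY) (map_ne_bot hY0)
  · have h5 := h3 _ (Irr.tr' hX)
    rw [h4] at h5
    refine ⟨h5.1, fun h6 => ?_⟩
    rw [← map_symm_map e X]
    exact NdOn.tr h (h5.2 h6)

theorem tr_mem_SS_iff {e : V ≃ₗ[F] V'} (h : IsoTo Φ Φ' e) {K d : ℕ} {g : V ≃ₗ[F] V} :
    tr e g ∈ Φ'.SS K d ↔ g ∈ Φ.SS K d := by
  refine ⟨fun h1 => ?_, tr_mem_SS h⟩
  have := tr_mem_SS h.symm h1
  rwa [tr_symm_tr] at this

theorem tr_mem_Bm {e : V ≃ₗ[F] V'} (h : IsoTo Φ Φ' e) {g : V ≃ₗ[F] V} (hg : g ∈ Φ.Bm) : tr e g ∈ Φ'.Bm := by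
  refine ⟨tr_mem_iso h hg.1, ?_⟩
  have := Irr.tr (e := e) hg.2
  rwa [Submodule.map_top, LinearEquiv.range] at this

theorem tr_mem_Bm_iff {e : V ≃ₗ[F] V'} (h : IsoTo Φ Φ' e) {g : V ≃ₗ[F] V} : tr e g ∈ Φ'.Bm ↔ g ∈ Φ.Bm := by
  refine ⟨fun h1 => ?_, tr_mem_Bm h⟩
  have := tr_mem_Bm h.symm h1
  rwa [tr_symm_tr] at this

theorem IsCompl.tr (e : V ≃ₗ[F] V') {A A' : Submodule F V} (h : IsCompl A A') :
    IsCompl (A.map (e : V →ₗ[F] V')) (A'.map (e : V →ₗ[F] V')) := by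
  constructor
  · rw [Submodule.disjoint_def]
    rintro _ ⟨v, hv, rfl⟩ ⟨w, hw, hwv⟩
    have h1 : w = v := e.injective hwv
    rw [h1] at hw
    rw [Submodule.disjoint_def.1 h.disjoint v hv hw, map_zero]
  · rw [codisjoint_iff, ← Submodule.map_sup, h.sup_eq_top, Submodule.map_top, LinearEquiv.range]

theorem tr_mem_Bp {e : V ≃ₗ[F] V'} (h : IsoTo Φ Φ' e) {g : V ≃ₗ[F] V} (hg : g ∈ Φ.Bp) : tr e g ∈ Φ'.Bp := by
  obtain ⟨h1, A, A', hc, hA, hA', hi, hi', hdim, hno⟩ := hg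
  refine ⟨tr_mem_iso h h1, A.map (e : V →ₗ[F] V'), A'.map (e : V →ₗ[F] V'), IsCompl.tr e hc, TI.tr h hA, TI.tr h hA',
    Irr.tr hi, Irr.tr hi', ?_, ?_⟩
  · rw [LinearEquiv.finrank_map_eq e, LinearEquiv.finrank_map_eq e, hdim]
  · rintro ⟨φ, hφ⟩
    apply hno
    have hs : ∀ (B : Submodule F V) (b : B), (((e.submoduleMap B) b : B.map (e : V →ₗ[F] V')) : V') = e b :=
      fun B b => rfl
    refine ⟨(e.submoduleMap A).trans (φ.trans (e.submoduleMap A').symm), fun a ha => ?_⟩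
    have hk : ∀ b : A, e (((e.submoduleMap A).trans (φ.trans (e.submoduleMap A').symm) b : A') : V) =
        φ (e.submoduleMap A b) := by
      intro b
      rw [← hs A']
      simp
    apply e.injective
    rw [hk, ← tr_apply' e g, hk]
    have h3 : e.submoduleMap A ⟨g a, ha⟩ = ⟨tr e g (e.submoduleMap A a), by
        rw [hs, tr_apply']; exact ⟨g a, ha, rfl⟩⟩ := by
      apply Subtype.ext
      show e (g a) = tr e g (e.submoduleMap A a)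
      rw [hs, tr_apply']
    rw [h3]
    exact hφ _ _

theorem tr_mem_Bp_iff {e : V ≃ₗ[F] V'} (h : IsoTo Φ Φ' e) {g : V ≃ₗ[F] V} : tr e g ∈ Φ'.Bp ↔ g ∈ Φ.Bp := by
  refine ⟨fun h1 => ?_, tr_mem_Bp h⟩
  have := tr_mem_Bp h.symm h1
  rwa [tr_symm_tr] at this

theorem card_iso {e : V ≃ₗ[F] V'} (h : IsoTo Φ Φ' e) : Nat.card Φ.Iso = Nat.card Φ'.Iso :=
  Nat.card_congr ((tr e).toEquiv.subtypeEquiv fun _ => (tr_mem_iso_iff h).symm)

theorem card_SS {e : V ≃ₗ[F] V'} (h : IsoTo Φ Φ' e) (K d : ℕ) : Nat.card (Φ.SS K d) = Nat.card (Φ'.SS K d) :=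
  Nat.card_congr ((tr e).toEquiv.subtypeEquiv fun _ => (tr_mem_SS_iff h).symm)

theorem card_Bm {e : V ≃ₗ[F] V'} (h : IsoTo Φ Φ' e) : Nat.card Φ.Bm = Nat.card Φ'.Bm :=
  Nat.card_congr ((tr e).toEquiv.subtypeEquiv fun _ => (tr_mem_Bm_iff h).symm)

theorem card_Bp {e : V ≃ₗ[F] V'} (h : IsoTo Φ Φ' e) : Nat.card Φ.Bp = Nat.card Φ'.Bp :=
  Nat.card_congr ((tr e).toEquiv.subtypeEquiv fun _ => (tr_mem_Bp_iff h).symm)

/-- the determinant is invariant -/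
theorem det_tr (e : V ≃ₗ[F] V') (g : V ≃ₗ[F] V) :
    LinearMap.det ((tr e g : V' ≃ₗ[F] V') : V' →ₗ[F] V') = LinearMap.det (g : V →ₗ[F] V) := by
  have : ((tr e g : V' ≃ₗ[F] V') : V' →ₗ[F] V') = (e : V →ₗ[F] V') ∘ₗ (g : V →ₗ[F] V) ∘ₗ (e.symm : V' →ₗ[F] V) := by
    ext v; rfl
  rw [this, LinearMap.det_conj]

/-! ### the trivial cases -/

theorem subsingleton_of_finrank_zero [FiniteDimensional F V] (h : finrank F V = 0) : Subsingleton V :=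
  Module.finrank_zero_iff.1 h

theorem SS_of_finrank_zero [FiniteDimensional F V] (h : finrank F V = 0) (K d : ℕ) (y : V ≃ₗ[F] V) :
    y ∈ Φ.SS K d := by
  have := subsingleton_of_finrank_zero h
  refine ⟨⟨fun v w => ?_, fun v => ?_⟩, fun Y _ hY => absurd (Subsingleton.elim Y ⊥) hY,
    fun X hX => absurd (Subsingleton.elim X ⊥) hX.ne_bot⟩
  · rw [Subsingleton.elim (y v) v, Subsingleton.elim (y w) w]
  · rw [Subsingleton.elim (y v) v]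

/-- spaces of dimension zero -/
theorem card_SS_zero [FiniteDimensional F V] (h : finrank F V = 0) (K d : ℕ) : Nat.card (Φ.SS K d) = 1 := by
  have := subsingleton_of_finrank_zero h
  have h1 : Subsingleton (Φ.SS K d) := ⟨fun a b => Subtype.ext (LinearEquiv.ext fun v => Subsingleton.elim _ _)⟩
  have h2 : Nonempty (Φ.SS K d) := ⟨⟨1, SS_of_finrank_zero h K d 1⟩⟩
  exact Nat.card_eq_one_iff_unique.2 ⟨h1, h2⟩

theorem card_iso_zero [FiniteDimensional F V] (h : finrank F V = 0) : Nat.card Φ.Iso = 1 := by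
  have := subsingleton_of_finrank_zero h
  have h1 : Subsingleton Φ.Iso := ⟨fun a b => Subtype.ext (LinearEquiv.ext fun v => Subsingleton.elim _ _)⟩
  exact Nat.card_eq_one_iff_unique.2 ⟨h1, ⟨1⟩⟩

end Cfsg.Agent.H440.Bs
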